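import Groth.Agent.CohOps.PnSmooth
import Groth.Agent.ProjMorph.Sections
import Groth.Agent.QCoh.Basic

/-!
# Standard charts of projective space over `ℤ`
-/

set_option autoImplicit false
set_option backward.isDefEq.respectTransparency.types false

noncomputable section

universe u

open CategoryTheory AlgebraicGeometry MvPolynomial TopologicalSpace Opposite HomogeneousLocalization

namespace Groth.Agent.BlowBir

open Groth.Agent.QCoh Groth.Agent.Props.ProjFrame Groth.Agent.ProjMorph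

variable {N : ℕ}

abbrev gr (N : ℕ) := CohB1.polyGrading N (ULift.{u} ℤ)

abbrev P0 (N : ℕ) : Scheme.{u} := CohB1.ProjSpace N (ULift.{u} ℤ)

theorem X_mem' (k : Fin (N + 1)) :
    (X k : MvPolynomial (Fin (N + 1)) (ULift.{u} ℤ)) ∈ gr.{u} N 1 :=
  CohOps.PnSmooth.X_mem N (ULift.{u} ℤ) k

/-- `D₊(X_k)`. -/
abbrev D (k : Fin (N + 1)) : (P0.{u} N).Opens := Proj.basicOpen (gr.{u} N) (X k)

/-- `X_j / X_k` on `D₊(X_k)`. -/
abbrev u (k j : Fin (N + 1)) : Γ(P0.{u} N, D.{u} k) := ratio (X_mem' k) (X_mem' j)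

theorem u_self (k : Fin (N + 1)) : u.{u} k k = 1 := ratio_self (X_mem' k)

theorem basicOpen_u (k j : Fin (N + 1)) : (P0.{u} N).basicOpen (u k j) = D k ⊓ D j :=
  basicOpen_coeff (X_mem' j) (X_mem' k) _ le_rfl

theorem u_mul {k l : Fin (N + 1)} (j : Fin (N + 1)) {W : (Proj (gr.{u} N)).Opens} (hk : W ≤ D k) (hl : W ≤ D l) :
    rres hk (u k j) * rres hl (u l k) = rres hl (u l j) := by
  refine valAt_ext fun x => ?_
  rw [valAt_mul, valAt_rres, valAt_rres, valAt_rres, valAt_coeff, valAt_coeff, valAt_coeff,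
    Localization.mk_mul, Localization.mk_eq_mk_iff, Localization.r_iff_exists]
  exact ⟨1, by simp; ring⟩

theorem iSup_D : (⨆ k : Fin (N + 1), D.{u} k) = (⊤ : (P0.{u} N).Opens) := by
  refine Proj.iSup_basicOpen_eq_top' _ _ (fun i => ⟨1, X_mem' i⟩) ?_
  refine top_le_iff.mp fun p _ => ?_
  induction p using MvPolynomial.induction_on with
  | C a =>
    exact Subalgebra.algebraMap_mem _ (⟨MvPolynomial.C a, MvPolynomial.isHomogeneous_C _ _⟩ : gr.{u} N 0)
  | add p q hp hq => exact add_mem (hp trivial) (hq trivial)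
  | mul_X p i hp => exact mul_mem (hp trivial) (Algebra.subset_adjoin ⟨i, rfl⟩)

theorem isAffineOpen_D (k : Fin (N + 1)) : IsAffineOpen (D.{u} k) :=
  Proj.isAffineOpen_basicOpen _ _ (X_mem' k) one_pos

/-- Ring maps out of a chart are determined by the coordinates. -/
theorem ringHom_ext_D (k : Fin (N + 1)) {R : Type u} [CommRing R] {φ ψ : Γ(P0.{u} N, D k) →+* R}
    (h : ∀ j, φ (u k j) = ψ (u k j)) : φ = ψ := by
  haveI : Subsingleton (ULift.{u} ℤ →+* R) := ⟨fun a b => RingHom.ext fun z => by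
    obtain ⟨z⟩ := z
    exact RingHom.congr_fun (Subsingleton.elim (a.comp ULift.ringEquiv.symm.toRingHom) (b.comp ULift.ringEquiv.symm.toRingHom)) z⟩
  let e := (Proj.basicOpenIsoAway (gr.{u} N) (X k) (X_mem' k) one_pos).hom
  have key : φ.comp e.hom = ψ.comp e.hom := by
    refine RingHom.ext fun z => ?_
    obtain ⟨p, rfl⟩ := (CohOps.PnSmooth.toAway_bijective N (ULift.{u} ℤ) k).2 z
    refine RingHom.congr_fun (MvPolynomial.ringHom_ext ?_ ?_ :
      (φ.comp e.hom).comp (CohOps.PnSmooth.toAway N (ULift.{u} ℤ) k) =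
        (ψ.comp e.hom).comp (CohOps.PnSmooth.toAway N (ULift.{u} ℤ) k)) p
    · intro r
      exact RingHom.congr_fun (Subsingleton.elim
        (((φ.comp e.hom).comp (CohOps.PnSmooth.toAway N (ULift.{u} ℤ) k)).comp C)
        (((ψ.comp e.hom).comp (CohOps.PnSmooth.toAway N (ULift.{u} ℤ) k)).comp C)) r
    · intro j
      have h1 : Proj.awayToSection (gr.{u} N) (X k) (CohOps.PnSmooth.dh N (ULift.{u} ℤ) k (X (k.succAbove j))) =
          u k (k.succAbove j) := by
        rw [CohOps.PnSmooth.dh, ZetaLib.dehom_of_mem _ _ (X_mem' (k.succAbove j))]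
        exact awayToSection_mk_one (X_mem' k) (X_mem' _) _
      have h2 : e.hom (CohOps.PnSmooth.toAway N (ULift.{u} ℤ) k (X j)) = u k (k.succAbove j) := by
        rw [show CohOps.PnSmooth.toAway N (ULift.{u} ℤ) k (X j) =
          CohOps.PnSmooth.dh N (ULift.{u} ℤ) k (X (k.succAbove j)) from eval₂Hom_X' _ _ j]
        exact h1
      simp only [RingHom.comp_apply]
      exact (congrArg φ h2).trans ((h _).trans (congrArg ψ h2).symm)
  refine RingHom.ext fun z => ?_
  obtain ⟨w, rfl⟩ := (ConcreteCategory.bijective_of_isIso e).2 z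
  exact RingHom.congr_fun key w

/-- Two maps into a chart agree when their coordinates do. -/
theorem hom_ext_D (k : Fin (N + 1)) {T : Scheme.{u}} (a b : T ⟶ P0.{u} N)
    (ha : (⊤ : T.Opens) ≤ a ⁻¹ᵁ D k) (hb : (⊤ : T.Opens) ≤ b ⁻¹ᵁ D k)
    (h : ∀ j, a.appLE (D k) ⊤ ha (u k j) = b.appLE (D k) ⊤ hb (u k j)) : a = b := by
  have := isAffineOpen_D.{u} (N := N) k
  have hra : Set.range a ⊆ Set.range (D.{u} k).ι := by
    rw [Scheme.Opens.range_ι]; rintro _ ⟨t, rfl⟩; exact ha trivial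
  have hrb : Set.range b ⊆ Set.range (D.{u} k).ι := by
    rw [Scheme.Opens.range_ι]; rintro _ ⟨t, rfl⟩; exact hb trivial
  haveI : IsAffine (D.{u} k : Scheme.{u}) := isAffineOpen_D k
  let a' := IsOpenImmersion.lift (D.{u} k).ι a hra
  let b' := IsOpenImmersion.lift (D.{u} k).ι b hrb
  suffices a' = b' by
    rw [← IsOpenImmersion.lift_fac (D.{u} k).ι a hra, ← IsOpenImmersion.lift_fac (D.{u} k).ι b hrb]
    exact congrArg (· ≫ _) this
  apply ext_of_isAffine
  have hι : (⊤ : (D.{u} k : Scheme.{u}).Opens) ≤ (D.{u} k).ι ⁻¹ᵁ D k := (D.{u} k).ι_preimage_self.ge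
  haveI : IsIso ((D.{u} k).ι.appLE (D k) ⊤ hι) := inferInstance
  have h0 : a.appLE (D k) ⊤ ha = b.appLE (D k) ⊤ hb := CommRingCat.hom_ext (ringHom_ext_D k h)
  rw [← cancel_epi ((D.{u} k).ι.appLE (D k) ⊤ hι)]
  have ea : (D.{u} k).ι.appLE (D k) ⊤ hι ≫ a'.appTop = a.appLE (D k) ⊤ ha := by
    rw [show a'.appTop = a'.appLE ⊤ ⊤ le_rfl from Scheme.Hom.app_eq_appLE _, Scheme.Hom.appLE_comp_appLE]
    simp only [IsOpenImmersion.lift_fac, a']
  have eb : (D.{u} k).ι.appLE (D k) ⊤ hι ≫ b'.appTop = b.appLE (D k) ⊤ hb := by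
    rw [show b'.appTop = b'.appLE ⊤ ⊤ le_rfl from Scheme.Hom.app_eq_appLE _, Scheme.Hom.appLE_comp_appLE]
    simp only [IsOpenImmersion.lift_fac, b']
  rw [ea, eb, h0]

end Groth.Agent.BlowBir
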