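import Groth.Agent.BlowBir.Chart
import Groth.Agent.Props.AmpleCoeff
import Groth.Agent.Props.GenExt
import Groth.Agent.Props.AmpleFrames
import Groth.Agent.ZeroSchemeLib.Basic
import Groth.Agent.IdealSh.Comap
import Groth.Agent.IdealSh.EffCartier
import Groth.Prelude.Def_BlowUp2

/-!
# An ideal whose inverse image on a projective birational model is invertible
-/

set_option autoImplicit false
set_option backward.isDefEq.respectTransparency.types false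

noncomputable section

universe u

open CategoryTheory CategoryTheory.Limits AlgebraicGeometry TopologicalSpace Opposite

namespace Groth.Agent.BlowBir

open Groth.Agent.QCoh Groth.Agent.Props.GenLocus Groth.Agent.Props.GenTensor Groth.Agent.Props.GenProd

variable {X Z : Scheme.{u}}

theorem rres_appLE (f : Z ⟶ X) {V : X.Opens} {W W' : Z.Opens} (h : W' ≤ W) (e : W ≤ f ⁻¹ᵁ V) (a : Γ(X, V)) :
    rres h (f.appLE V W e a) = f.appLE V W' (h.trans e) a :=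
  ConcreteCategory.congr_hom (Scheme.Hom.appLE_map f e (homOfLE h).op) a

theorem appLE_rres (f : Z ⟶ X) {V V' : X.Opens} {W : Z.Opens} (h : V' ≤ V) (e : W ≤ f ⁻¹ᵁ V') (a : Γ(X, V)) :
    f.appLE V' W e (rres h a) = f.appLE V W (e.trans ((Opens.map f.base).map (homOfLE h)).le) a :=
  ConcreteCategory.congr_hom (Scheme.Hom.map_appLE f e (homOfLE h).op) a

/-- On an integral scheme restriction to a nonempty open is injective. -/
theorem rres_injective [IsIntegral Z] {U V : Z.Opens} (h : V ≤ U) (hV : Nonempty V) :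
    Function.Injective (rres h) :=
  map_injective_of_isIntegral Z (homOfLE h)

/-- `f` is bijective on sections over opens inside the isomorphism locus. -/
theorem isIso_app_of_le (f : Z ⟶ X) (U : X.Opens) [IsIso (f ∣_ U)] (S : X.Opens) (h : S ≤ U) :
    IsIso (f.app S) := by
  obtain ⟨S', rfl⟩ : ∃ S' : (U : Scheme.{u}).Opens, U.ι ''ᵁ S' = S := ⟨U.ι ⁻¹ᵁ S, by
    rw [Scheme.Hom.image_preimage_eq_opensRange_inf, Scheme.Opens.opensRange_ι, inf_eq_right.2 h]⟩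
  have h1 := morphismRestrict_app f U S'
  have h2 : IsIso ((f ∣_ U).app S') := inferInstance
  rw [h1, eqToHom_op, eqToHom_map] at h2
  refine @IsIso.of_isIso_comp_right _ _ _ _ _ (f.app (U.ι ''ᵁ S')) _ ?_ h2
  refine Iso.isIso_hom (eqToIso ?_)
  exact congrArg (fun V => Γ(Z, V)) (image_morphismRestrict_preimage f U S').symm

variable [IsIntegral Z] [IsNoetherian X] {f : Z ⟶ X} {N : ℕ} (q : Z ⟶ P0.{u} N)

/-- A frame chart of the ideal. -/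
structure Frame (I : X.IdealSheafData) (f : Z ⟶ X) (q : Z ⟶ P0.{u} N) (V : X.affineOpens) where
  a : Fin (N + 1) → Γ(X, V.1)
  ideal_eq : I.ideal V = Ideal.span (Set.range a)
  eq_mul : ∀ (W : Z.Opens) (k j : Fin (N + 1)) (hk : W ≤ q ⁻¹ᵁ D k) (hV : W ≤ f ⁻¹ᵁ V.1),
    f.appLE V.1 W hV (a j) = q.appLE (D k) W hk (u k j) * f.appLE V.1 W hV (a k)
  ne_zero : ∀ (W : Z.Opens) (k : Fin (N + 1)) (hk : W ≤ q ⁻¹ᵁ D k) (hV : W ≤ f ⁻¹ᵁ V.1),
    Nonempty W → f.appLE V.1 W hV (a k) ≠ 0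

theorem exists_ideal {L : X.Modules} (hL : CohB1.IsAmple L)
    (hbir : ∃ U : X.Opens, (U : Set X).Nonempty ∧ IsIso (f ∣_ U)) :
    ∃ I : X.IdealSheafData, ∀ x : X, ∃ V : X.affineOpens, x ∈ V.1 ∧ Nonempty (Frame I f q V) := by
  obtain ⟨U₀, ⟨x₀, hx₀⟩, hiso⟩ := hbir
  -- a chart meeting the isomorphism locus
  obtain ⟨k₀, hk₀⟩ : ∃ k₀, ((f ⁻¹ᵁ U₀).ι (inv (f ∣_ U₀) ⟨x₀, hx₀⟩) : Z) ∈ q ⁻¹ᵁ D k₀ := by
    have h0 : q ((f ⁻¹ᵁ U₀).ι (inv (f ∣_ U₀) ⟨x₀, hx₀⟩)) ∈ ⨆ k, D.{u} (N := N) k := by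
      rw [iSup_D]; trivial
    obtain ⟨k, hk⟩ := Opens.mem_iSup.1 h0
    exact ⟨k, hk⟩
  let O : X.Opens := U₀.ι ''ᵁ ((inv (f ∣_ U₀)) ⁻¹ᵁ ((f ⁻¹ᵁ U₀).ι ⁻¹ᵁ (q ⁻¹ᵁ D k₀)))
  have hxO : x₀ ∈ O := ⟨⟨x₀, hx₀⟩, hk₀, rfl⟩
  obtain ⟨_, ⟨n, s, rfl⟩, hxS, hSO⟩ :=
    (Opens.isBasis_iff_nbhd.1 (Props.GenExt.isBasis_of_isAmple hL)) hxO
  let S := CohB1.genLocus _ s
  have hSU : S ≤ U₀ := hSO.trans (U₀.ι_image_le _)
  have hfS : f ⁻¹ᵁ S ≤ q ⁻¹ᵁ D k₀ := by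
    intro z hz
    obtain ⟨y, hy, hyz⟩ := hSO hz
    have h1 : (f ∣_ U₀) ⟨z, hSU hz⟩ = y := Subtype.ext (by
      have e1 := congr($(morphismRestrict_ι f U₀).base ⟨z, hSU hz⟩)
      exact e1.trans hyz.symm)
    have h2 : inv (f ∣_ U₀) y = ⟨z, hSU hz⟩ := by
      rw [← h1, ← Scheme.Hom.comp_apply, IsIso.hom_inv_id]
      rfl
    have h3 : (f ⁻¹ᵁ U₀).ι (inv (f ∣_ U₀) y) ∈ q ⁻¹ᵁ D k₀ := hy
    rw [h2] at h3
    exact h3
  haveI := isIso_app_of_le f U₀ S hSU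
  choose ρ hρ using fun j => (ConcreteCategory.bijective_of_isIso (f.app S)).2 (q.appLE (D k₀) (f ⁻¹ᵁ S) hfS (u k₀ j))
  -- extension of `ρ` with poles along `s`
  have hσ : ∀ j, ∃ σ : Γ(CohB1.tensorPow L 0, S), ∀ (W : X.Opens) (h : W ≤ S) (e : Γ(L, W)) (he : IsGen L W e),
      co 0 σ h he = rres h (ρ j) := fun j =>
    exists_of_coeff hL.1 0 S (fun W h e he => rres h (ρ j)) (fun W W' h h' e he => rres_rres h h' _)
      (fun W h e he v hv => by rw [pow_zero, one_mul])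
  choose σ hσ using hσ
  choose N₀ hN₀ using fun j => Props.AmpleCoeff.exists_extend hL.1 s (rfl : S = _) (σ j)
  let M := Finset.univ.sup N₀
  choose t ht using fun j => hN₀ j M (Finset.le_sup (Finset.mem_univ j))
  let P := CohB1.tensorPow L (0 + (n + 1) * M)
  have hP : PicF.IsInvertible P := Props.AmpleFrames.isInvertible_tensorPow hL.1 _
  refine ⟨⨆ j, PicF2.zeroScheme P (t j), fun x => ?_⟩
  obtain ⟨U₁, e₁, hxU₁, he₁⟩ := exists_isGen hL.1 x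
  obtain ⟨V, hxV, hVU⟩ := IdealSh.Comap.exists_affine_le x U₁ hxU₁
  let e : Γ(L, V.1) := res L hVU e₁
  have he : IsGen L V.1 e := he₁.restrict hVU
  let a : Fin (N + 1) → Γ(X, V.1) := fun j => co _ (sec (t j) ⊤) le_top he
  let c : Γ(X, V.1) := co (n + 1) (sec s ⊤) le_top he
  have hc : ∀ {Y : X.Opens} (h : Y ≤ V.1), Y ≤ S → IsUnit (rres h c) := fun {Y} h hYS => by
    have hle : Y ≤ X.basicOpen c := by
      rw [← genLocus_inf_eq he s]; exact le_inf hYS h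
    have := (RingedSpace.isUnit_res_basicOpen _ c).map (rres hle).hom
    rwa [← rres_rres (X.basicOpen_le c) hle c]
  have key : ∀ (W : Z.Opens) (hV : W ≤ f ⁻¹ᵁ V.1) (hS : W ≤ f ⁻¹ᵁ S) (j : Fin (N + 1)),
      f.appLE V.1 W hV (a j) = f.appLE V.1 W hV c ^ M * q.appLE (D k₀) W (hS.trans hfS) (u k₀ j) := by
    intro W hV hS j
    have h2 : W ≤ f ⁻¹ᵁ (S ⊓ V.1) := fun z hz => ⟨hS hz, hV hz⟩
    have h1 := congrArg (f.appLE (S ⊓ V.1) W h2) (ht j V.1 e he)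
    rw [hσ, map_mul, map_pow, appLE_rres, appLE_rres, appLE_rres] at h1
    have h3 : f.appLE S W hS (ρ j) = q.appLE (D k₀) W (hS.trans hfS) (u k₀ j) := by
      rw [← rres_appLE f hS le_rfl (ρ j), ← Scheme.Hom.app_eq_appLE, hρ, rres_appLE]
    rw [h3] at h1
    exact h1
  have eqm : ∀ (W : Z.Opens) (k j : Fin (N + 1)) (hk : W ≤ q ⁻¹ᵁ D k) (hV : W ≤ f ⁻¹ᵁ V.1),
      f.appLE V.1 W hV (a j) = q.appLE (D k) W hk (u k j) * f.appLE V.1 W hV (a k) := by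
    intro W k j hk hV
    rcases isEmpty_or_nonempty W with hW | hW
    · have : W = ⊥ := Opens.ext (Set.eq_empty_of_forall_notMem fun z hz => hW.false ⟨z, hz⟩)
      subst this
      exact Subsingleton.elim _ _
    let W' := W ⊓ f ⁻¹ᵁ S
    have hne : Nonempty W' := by
      obtain ⟨⟨z, hz⟩⟩ := hW
      obtain ⟨w, hw⟩ : (f ⁻¹ᵁ S : Set Z).Nonempty :=
        ⟨(f ⁻¹ᵁ U₀).ι (inv (f ∣_ U₀) ⟨x₀, hx₀⟩), by
          show f _ ∈ S
          rw [← Scheme.Hom.comp_apply, ← morphismRestrict_ι, Scheme.Hom.comp_apply,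
            ← Scheme.Hom.comp_apply (inv (f ∣_ U₀)), IsIso.inv_hom_id]
          exact hxS⟩
      obtain ⟨y, hy⟩ := nonempty_preirreducible_inter W.2 (f ⁻¹ᵁ S).2 ⟨z, hz⟩ ⟨w, hw⟩
      exact ⟨⟨y, hy⟩⟩
    apply rres_injective (inf_le_left : W' ≤ W) hne
    have hk' : W' ≤ q ⁻¹ᵁ D k := inf_le_left.trans hk
    have hk0' : W' ≤ q ⁻¹ᵁ D k₀ := inf_le_right.trans hfS
    rw [map_mul, rres_appLE, rres_appLE, rres_appLE, key W' _ inf_le_right, key W' _ inf_le_right]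
    have hle : W' ≤ q ⁻¹ᵁ (D k ⊓ D k₀) := fun z hz => ⟨hk' hz, hk0' hz⟩
    have h4 := congrArg (q.appLE (D k ⊓ D k₀) W' hle) (u_mul (l := k₀) j (inf_le_left : D k ⊓ D k₀ ≤ D k) inf_le_right)
    erw [map_mul, appLE_rres, appLE_rres, appLE_rres] at h4
    rw [← h4]
    ring
  refine ⟨V, hxV, ⟨{ a := a, ideal_eq := ?_, eq_mul := eqm, ne_zero := ?_ }⟩⟩
  · rw [Scheme.IdealSheafData.ideal_iSup, iSup_apply]
    rw [show (Set.range a) = ⋃ j, {a j} from (Set.iUnion_singleton_eq_range a).symm, Ideal.span, Submodule.span_iUnion]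
    refine iSup_congr fun j => ?_
    refine ZeroSchemeLib.zeroScheme_ideal_eq_span hP (t j) V (isGen_pw he _) ?_
    rw [← co_spec, sec_res]
    rfl
  · intro W k hk hV hW h0
    let W' := W ⊓ f ⁻¹ᵁ S
    obtain ⟨⟨z, hz⟩⟩ := hW
    obtain ⟨y, hy⟩ := nonempty_preirreducible_inter W.2 (f ⁻¹ᵁ S).2 ⟨z, hz⟩
      ⟨(f ⁻¹ᵁ U₀).ι (inv (f ∣_ U₀) ⟨x₀, hx₀⟩), by
        show f _ ∈ S
        rw [← Scheme.Hom.comp_apply, ← morphismRestrict_ι, Scheme.Hom.comp_apply,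
          ← Scheme.Hom.comp_apply (inv (f ∣_ U₀)), IsIso.inv_hom_id]
        exact hxS⟩
    haveI : Nonempty W' := ⟨⟨y, hy⟩⟩
    haveI : Nontrivial Γ(Z, W') := Scheme.component_nontrivial Z W'
    have h1 := congrArg (rres (inf_le_left : W' ≤ W)) (eqm W k k₀ hk hV)
    rw [h0, mul_zero, map_zero, rres_appLE, key W' _ inf_le_right, u_self, map_one, mul_one] at h1
    have hu : IsUnit (f.appLE V.1 W' (inf_le_left.trans hV) c) := by
      have h2 : W' ≤ f ⁻¹ᵁ (S ⊓ V.1) := fun z hz => ⟨hz.2, hV hz.1⟩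
      have := (hc (inf_le_right : S ⊓ V.1 ≤ V.1) inf_le_left).map (f.appLE (S ⊓ V.1) W' h2).hom
      rwa [show (f.appLE (S ⊓ V.1) W' h2).hom (rres (inf_le_right : S ⊓ V.1 ≤ V.1) c) = _ from appLE_rres f _ _ c] at this
    exact not_isUnit_zero (h1 ▸ hu.pow M)

end Groth.Agent.BlowBir
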