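import Groth.Agent.BlowBir.Ideal
import Groth.Agent.BlowUp.Glue
import Groth.Agent.BlowUp.Basic
import Groth.Agent.BlowUpProper.Basic
import Groth.Agent.ProjProper.Basic
import Groth.Agent.S2348
import Mathlib.AlgebraicGeometry.ZariskisMainTheorem

/-!
# Projective birational morphisms to a scheme with an ample module are blow-ups
-/

set_option autoImplicit false
set_option backward.isDefEq.respectTransparency.types false

noncomputable section

universe u

open CategoryTheory CategoryTheory.Limits AlgebraicGeometry TopologicalSpace Opposite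

namespace Groth.Agent.BlowBir

open Groth.Agent.QCoh

variable {X Z : Scheme.{u}}

theorem span_range_eq_singleton {R : Type*} [CommRing R] {ι : Type*} (b : ι → R) (k : ι)
    (h : ∀ j, b k ∣ b j) : Ideal.span (Set.range b) = Ideal.span {b k} :=
  le_antisymm (Ideal.span_le.2 (Set.range_subset_iff.2 fun j => Ideal.mem_span_singleton.2 (h j)))
    (Ideal.span_mono (Set.singleton_subset_iff.2 ⟨k, rfl⟩))

theorem isBlowUp_of_birational [IsIntegral Z] [IsIntegral X] [IsNoetherian X] (L : X.Modules) (hL : CohB1.IsAmple L)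
    (f : Z ⟶ X) (N : ℕ) (i : Z ⟶ CohB1.ProjSpaceOver N X) [IsClosedImmersion i]
    (hi : i ≫ CohB1.ProjSpaceOver.toBase N X = f)
    (hbir : ∃ U : X.Opens, (U : Set X).Nonempty ∧ IsIso (f ∣_ U)) :
    ∃ I : X.IdealSheafData, BlowUp.IsBlowUp f I := by
  let pr : CohB1.ProjSpaceOver N X ⟶ P0.{u} N := pullback.fst _ _
  let q : Z ⟶ P0.{u} N := i ≫ pr
  obtain ⟨I, hI⟩ := exists_ideal (f := f) q hL hbir
  choose V hxV F using hI
  let F' : ∀ x, Frame I f q (V x) := fun x => (F x).some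
  have cover : ∀ z : Z, ∃ k, z ∈ q ⁻¹ᵁ D k := fun z => by
    have h0 : q z ∈ ⨆ k, D.{u} (N := N) k := by rw [iSup_D]; trivial
    obtain ⟨k, hk⟩ := Opens.mem_iSup.1 h0
    exact ⟨k, hk⟩
  -- the inverse image is invertible
  have hEff : BlowUp.IsEffCartierIdeal (I.comap f) := by
    intro z
    obtain ⟨k, hk⟩ := cover z
    obtain ⟨W, hzW, hW⟩ := IdealSh.Comap.exists_affine_le z (q ⁻¹ᵁ D k ⊓ f ⁻¹ᵁ (V (f z)).1) ⟨hk, hxV (f z)⟩
    have hWk : W.1 ≤ q ⁻¹ᵁ D k := hW.trans inf_le_left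
    have hWV : W.1 ≤ f ⁻¹ᵁ (V (f z)).1 := hW.trans inf_le_right
    haveI : Nonempty W.1 := ⟨⟨z, hzW⟩⟩
    refine ⟨W, hzW, f.appLE (V (f z)).1 W.1 hWV ((F' (f z)).a k),
      mem_nonZeroDivisors_of_ne_zero ((F' (f z)).ne_zero W.1 k hWk hWV inferInstance), ?_⟩
    rw [IdealSh.Comap.ideal_comap I f (V (f z)) W hWV, (F' (f z)).ideal_eq, Ideal.map_span, ← Set.range_comp]
    exact span_range_eq_singleton _ k fun j => ⟨_, ((F' (f z)).eq_mul W.1 k j hWk hWV).trans (mul_comm _ _)⟩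
  have hbot : I ≠ ⊥ := by
    intro h0
    obtain ⟨z⟩ : Nonempty Z := inferInstance
    obtain ⟨k, hk⟩ := cover z
    obtain ⟨W, hzW, hW⟩ := IdealSh.Comap.exists_affine_le z (q ⁻¹ᵁ D k ⊓ f ⁻¹ᵁ (V (f z)).1) ⟨hk, hxV (f z)⟩
    have ha : (F' (f z)).a k ∈ I.ideal (V (f z)) := by
      rw [(F' (f z)).ideal_eq]; exact Ideal.subset_span ⟨k, rfl⟩
    have h0' : I.ideal (V (f z)) = ⊥ := by
      rw [show I.ideal = (⊥ : X.IdealSheafData).ideal from congrArg Scheme.IdealSheafData.ideal h0,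
        Scheme.IdealSheafData.ideal_bot, Pi.bot_apply]
    rw [h0', Ideal.mem_bot] at ha
    exact (F' (f z)).ne_zero W.1 k (hW.trans inf_le_left) (hW.trans inf_le_right) ⟨⟨z, hzW⟩⟩ (by rw [ha, map_zero])
  obtain ⟨B, b, hb⟩ := BlowUp.Glue.exists_isBlowUp X I
  obtain ⟨g, hg, -⟩ := hb.2 Z f hEff
  obtain ⟨_, -, -⟩ := S2348.result I hbot b hb
  haveI : IsProper b := BlowUpProper.Basic.isProper hb fun U => by
    haveI : IsNoetherianRing Γ(X, U.1) := IsLocallyNoetherian.component_noetherian U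
    exact IsNoetherian.noetherian _
  haveI := ProjProper.Basic.isProper_toBase N X
  haveI : IsProper (g ≫ b) := by rw [hg, ← hi]; infer_instance
  haveI : IsProper g := IsProper.of_comp g b
  -- good opens of the blow-up
  have good : ∀ y : B, ∃ (W : B.Opens) (k : Fin (N + 1)) (hV : W ≤ b ⁻¹ᵁ (V (b y)).1) (d : Fin (N + 1) → Γ(B, W)),
      y ∈ W ∧ ∀ j, b.appLE (V (b y)).1 W hV ((F' (b y)).a j) = d j * b.appLE (V (b y)).1 W hV ((F' (b y)).a k) := by
    intro y
    obtain ⟨W, hyW, hWV, c, hc, hce⟩ := IdealSh.EffCartier.exists_equation hb.1 y (b ⁻¹ᵁ (V (b y)).1) (hxV (b y))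
    rw [IdealSh.Comap.ideal_comap I b (V (b y)) W hWV, (F' (b y)).ideal_eq, Ideal.map_span, ← Set.range_comp] at hce
    have hd : ∀ j, ∃ d, d * c = b.appLE (V (b y)).1 W.1 hWV ((F' (b y)).a j) := fun j =>
      Ideal.mem_span_singleton'.1 (hce.le (Ideal.subset_span ⟨j, rfl⟩))
    choose d hd using hd
    obtain ⟨e, he⟩ := (Submodule.mem_span_range_iff_exists_fun _).1 (hce.ge (Ideal.mem_span_singleton_self c))
    have h1 : ∑ j, e j * d j = 1 := by
      apply (mul_cancel_right_mem_nonZeroDivisors hc).1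
      rw [one_mul, Finset.sum_mul]
      refine Eq.trans (Finset.sum_congr rfl fun j _ => ?_) he
      rw [mul_assoc, hd]; rfl
    obtain ⟨k, hk⟩ : ∃ k, IsUnit (B.presheaf.germ W.1 y hyW (d k)) := by
      by_contra hne
      push Not at hne
      have h2 : (1 : B.presheaf.stalk y) ∈ IsLocalRing.maximalIdeal _ := by
        rw [← map_one (B.presheaf.germ W.1 y hyW).hom, ← h1, map_sum]
        refine Ideal.sum_mem _ fun j _ => ?_
        rw [map_mul]
        exact Ideal.mul_mem_left _ _ ((IsLocalRing.mem_maximalIdeal _).2 (hne j))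
      exact (IsLocalRing.mem_maximalIdeal _).1 h2 isUnit_one
    have hu : IsUnit (rres (B.basicOpen_le (d k)) (d k)) := RingedSpace.isUnit_res_basicOpen B.toRingedSpace (d k)
    obtain ⟨v, hv⟩ := hu
    refine ⟨B.basicOpen (d k), k, (B.basicOpen_le _).trans hWV,
      fun j => rres (B.basicOpen_le _) (d j) * (↑v⁻¹ : Γ(B, B.basicOpen (d k))), (B.mem_basicOpen (d k) y hyW).2 hk, fun j => ?_⟩
    rw [← rres_appLE b (B.basicOpen_le (d k)) hWV, ← rres_appLE b (B.basicOpen_le (d k)) hWV, ← hd, ← hd,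
      map_mul, map_mul]
    have hv' : rres (B.basicOpen_le (d k)) (d k) = (v : Γ(B, B.basicOpen (d k))) := hv.symm
    rw [hv', mul_assoc, ← mul_assoc (↑v⁻¹ : Γ(B, B.basicOpen (d k))), v.inv_mul, one_mul]
  choose W k hWV d hyW hd using good
  -- the preimage of a good open lies in the chart
  have hgW : ∀ y, g ⁻¹ᵁ W y ≤ f ⁻¹ᵁ (V (b y)).1 := fun y z hz => by
    show f z ∈ (V (b y)).1
    rw [← hg, Scheme.Hom.comp_apply]
    exact hWV y hz
  have hpull : ∀ y (O : Z.Opens) (hO : O ≤ g ⁻¹ᵁ W y) j,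
      f.appLE (V (b y)).1 O (hO.trans (hgW y)) ((F' (b y)).a j) =
        g.appLE (W y) O hO (d y j) * f.appLE (V (b y)).1 O (hO.trans (hgW y)) ((F' (b y)).a (k y)) := by
    intro y O hO j
    have h1 := congrArg (g.appLE (W y) O hO) (hd y j)
    have e : ∀ a, g.appLE (W y) O hO (b.appLE (V (b y)).1 (W y) (hWV y) a) = f.appLE (V (b y)).1 O (hO.trans (hgW y)) a := fun a => by
      subst hg
      exact ConcreteCategory.congr_hom (Scheme.Hom.appLE_comp_appLE g b (V (b y)).1 (W y) O (hWV y) hO) a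
    rw [map_mul, e, e] at h1
    exact h1
  have hchart : ∀ y, g ⁻¹ᵁ W y ≤ q ⁻¹ᵁ D (k y) := by
    intro y z hz
    obtain ⟨l, hl⟩ := cover z
    let O := g ⁻¹ᵁ W y ⊓ q ⁻¹ᵁ D l
    haveI : Nonempty O := ⟨⟨z, hz, hl⟩⟩
    have hOV : O ≤ f ⁻¹ᵁ (V (b y)).1 := inf_le_left.trans (hgW y)
    have h1 := (F' (b y)).eq_mul O l (k y) inf_le_right hOV
    have h2 := hpull y O inf_le_left l
    rw [h2, ← mul_assoc] at h1
    have hne : f.appLE (V (b y)).1 O hOV ((F' (b y)).a (k y)) ≠ 0 := by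
      intro h0
      rw [h0, mul_zero] at h2
      exact (F' (b y)).ne_zero O l inf_le_right hOV inferInstance h2
    have h3 : q.appLE (D l) O inf_le_right (u l (k y)) * g.appLE (W y) O inf_le_left (d y l) = 1 :=
      mul_right_cancel₀ hne (h1.symm.trans (one_mul _).symm)
    have hz' : z ∈ Z.basicOpen (q.appLE (D l) O inf_le_right (u l (k y))) := by
      rw [Z.basicOpen_of_isUnit (IsUnit.of_mul_eq_one _ h3)]; exact ⟨hz, hl⟩
    have h5 := (Scheme.basicOpen_appLE q O (D l) inf_le_right (u l (k y))).le hz'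
    have h6 : q z ∈ (P0.{u} N).basicOpen (u l (k y)) := h5.2
    rw [basicOpen_u] at h6
    exact h6.2
  have hcoord : ∀ y j, q.appLE (D (k y)) (g ⁻¹ᵁ W y) (hchart y) (u (k y) j) = g.appLE (W y) (g ⁻¹ᵁ W y) le_rfl (d y j) := by
    intro y j
    rcases isEmpty_or_nonempty (g ⁻¹ᵁ W y) with hW' | hW'
    · have : g ⁻¹ᵁ W y = ⊥ := Opens.ext (Set.eq_empty_of_forall_notMem fun z hz => hW'.false ⟨z, hz⟩)
      haveI : Subsingleton Γ(Z, g ⁻¹ᵁ W y) := by rw [this]; infer_instance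
      exact Subsingleton.elim _ _
    · refine mul_right_cancel₀ ((F' (b y)).ne_zero _ (k y) (hchart y) (hgW y) hW') ?_
      exact ((F' (b y)).eq_mul _ (k y) j (hchart y) (hgW y)).symm.trans (hpull y _ le_rfl j)
  -- `g` is a monomorphism
  haveI : Mono g := ⟨fun {T} s₁ s₂ hs => by
    rw [← cancel_mono i]
    apply pullback.hom_ext
    · -- coordinates, locally on `T`
      refine Scheme.Cover.hom_ext (T.openCoverOfIsOpenCover (fun y => (s₁ ≫ g) ⁻¹ᵁ W y)
        (top_le_iff.1 fun t _ => Opens.mem_iSup.2 ⟨(s₁ ≫ g) t, hyW _⟩)) _ _ fun y => ?_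
      let j := ((s₁ ≫ g) ⁻¹ᵁ W y).ι
      show j ≫ (s₁ ≫ i) ≫ pr = j ≫ (s₂ ≫ i) ≫ pr
      have hr : ∀ (s : T ⟶ Z), s ≫ g = s₁ ≫ g → (⊤ : ((s₁ ≫ g) ⁻¹ᵁ W y : Scheme.{u}).Opens) ≤ (j ≫ s) ⁻¹ᵁ (g ⁻¹ᵁ W y) := by
        intro s hs' t _
        show g ((j ≫ s) t) ∈ W y
        rw [← Scheme.Hom.comp_apply, Category.assoc, hs', Scheme.Hom.comp_apply]
        exact t.2
      have hco : ∀ (s : T ⟶ Z) (hs' : s ≫ g = s₁ ≫ g) l,
          ((j ≫ s) ≫ q).appLE (D (k y)) ⊤ ((hr s hs').trans (fun t ht => hchart y ht)) (u (k y) l) =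
            (j ≫ s₁ ≫ g).appLE (W y) ⊤ (by intro t _; exact t.2) (d y l) := by
        intro s hs' l
        rw [← Scheme.Hom.appLE_comp_appLE (j ≫ s) q (D (k y)) (g ⁻¹ᵁ W y) ⊤ (hchart y) (hr s hs'),
          CommRingCat.comp_apply, hcoord, ← CommRingCat.comp_apply, Scheme.Hom.appLE_comp_appLE]
        simp only [Category.assoc, hs']
      have h := hom_ext_D (k y) ((j ≫ s₁) ≫ q) ((j ≫ s₂) ≫ q) ((hr s₁ rfl).trans (fun t ht => hchart y ht))
        ((hr s₂ hs.symm).trans (fun t ht => hchart y ht)) fun l => (hco s₁ rfl l).trans (hco s₂ hs.symm l).symm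
      simpa [q, Category.assoc] using h
    · show (s₁ ≫ i) ≫ CohB1.ProjSpaceOver.toBase N X = (s₂ ≫ i) ≫ CohB1.ProjSpaceOver.toBase N X
      rw [Category.assoc, Category.assoc, hi, ← hg, ← Category.assoc, hs, Category.assoc]⟩
  haveI : IsClosedImmersion g := (IsClosedImmersion.iff_isProper_and_mono g).2 ⟨inferInstance, inferInstance⟩
  -- `g` is surjective
  obtain ⟨U, ⟨x₀, hx₀⟩, hU⟩ := hbir
  let C : X.Opens := U ⊓ I.support.compl
  haveI : Surjective g := by
    constructor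
    have hsub : ((b ⁻¹ᵁ C : B.Opens) : Set B) ⊆ Set.range g := by
      intro y hy
      have hy1 : b y ∈ U := hy.1
      let z := (f ⁻¹ᵁ U).ι (inv (f ∣_ U) ⟨b y, hy1⟩)
      have hz : b (g z) = b y := by
        rw [← Scheme.Hom.comp_apply, hg]
        show f ((f ⁻¹ᵁ U).ι _) = _
        rw [← Scheme.Hom.comp_apply, ← morphismRestrict_ι, Scheme.Hom.comp_apply,
          ← Scheme.Hom.comp_apply (inv (f ∣_ U)), IsIso.inv_hom_id]
        rfl
      haveI := BlowUp.Basic.isIso_restrict hb I.support.compl disjoint_compl_left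
      have hy2 : b y ∈ I.support.compl := hy.2
      have hgz : b (g z) ∈ I.support.compl := hz ▸ hy2
      have hinj := (b ∣_ I.support.compl).homeomorph.injective
      have := @hinj ⟨g z, hgz⟩ ⟨y, hy2⟩ (Subtype.ext (by
        exact (congr($(morphismRestrict_ι b I.support.compl).base ⟨g z, hgz⟩)).trans
          (hz.trans (congr($(morphismRestrict_ι b I.support.compl).base ⟨y, hy2⟩)).symm)))
      exact ⟨z, congrArg Subtype.val this⟩
    have hne : ((b ⁻¹ᵁ C : B.Opens) : Set B).Nonempty := by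
      have hIne : (I.support.compl : Set X).Nonempty := by
        by_contra h
        refine hbot (Scheme.IdealSheafData.support_eq_top_iff.mp (SetLike.ext fun x => ⟨fun _ => trivial, fun _ => ?_⟩))
        by_contra hx
        exact h ⟨x, hx⟩
      obtain ⟨x, hx⟩ := nonempty_preirreducible_inter U.2 I.support.compl.2 ⟨x₀, hx₀⟩ hIne
      haveI := BlowUp.Basic.isIso_restrict hb I.support.compl disjoint_compl_left
      refine ⟨(b ⁻¹ᵁ I.support.compl).ι (inv (b ∣_ I.support.compl) ⟨x, hx.2⟩), ?_⟩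
      show b _ ∈ C
      rw [← Scheme.Hom.comp_apply, ← morphismRestrict_ι, Scheme.Hom.comp_apply,
        ← Scheme.Hom.comp_apply (inv _), IsIso.inv_hom_id]
      exact hx
    have hd : Dense ((b ⁻¹ᵁ C : B.Opens) : Set B) := (b ⁻¹ᵁ C).2.dense hne
    exact Set.range_eq_univ.1 (Set.eq_univ_of_univ_subset (hd.closure_eq ▸ g.isClosedMap.isClosed_range.closure_subset_iff.2 hsub))
  haveI : IsIso g := isIso_of_isClosedImmersion_of_surjective g
  exact ⟨I, hg ▸ BlowUp.Basic.isBlowUp_iso_comp hb (asIso g)⟩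

end Groth.Agent.BlowBir
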